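import Groth.Agent.Lib.BrnchBC5.Alg
import Groth.Agent.Lib.AlgSp.EtBranches
import Groth.Agent.Lib.FEt21.Spread
import Groth.Prelude.Def_Curv2

/-!
# Geometric branches and field extensions
-/

set_option autoImplicit false
set_option maxHeartbeats 600000
universe u

open CategoryTheory CategoryTheory.Limits AlgebraicGeometry TensorProduct

namespace GrothLib.BrnchBC5

open GrothLib.Hensel IsLocalRing

theorem numGeomBranches_ringEquiv {A B : Type u} [CommRing A] [IsLocalRing A] [CommRing B] [IsLocalRing B]
    (e : A ≃+* B) : Brnch.numGeomBranches A = Brnch.numGeomBranches B := by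
  let S := StrictHens B
  letI : Algebra A S := ((algebraMap B S).comp e.toRingHom).toAlgebra
  haveI : IsLocalHom (algebraMap A S) := ⟨fun a ha ↦
    (MulEquiv.isUnit_map e).mp (isUnit_of_map_unit (algebraMap B S) _ ha)⟩
  have hB : _root_.Hensel.IsStrictHenselization B S := inferInstance
  haveI : _root_.Hensel.IsStrictHenselization A S := by
    refine ⟨hB.henselian, ?_, fun T _ _ f hf τ hτ ↦ ?_⟩
    · haveI := hB.isSepClosure
      haveI : IsSepClosed (ResidueField S) := IsSepClosure.sep_closed (ResidueField B)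
      haveI : Algebra.IsSeparable (ResidueField B) (ResidueField S) := IsSepClosure.separable
      refine ⟨inferInstance, Algebra.IsSeparable.of_equiv_equiv (ResidueField.mapEquiv e).symm
        (RingEquiv.refl (ResidueField S)) ?_⟩
      refine Ideal.Quotient.ringHom_ext (RingHom.ext fun b ↦ ?_)
      show residue S (algebraMap A S (e.symm b)) = residue S (algebraMap B S b)
      show residue S (algebraMap B S (e (e.symm b))) = _
      rw [e.apply_symm_apply]
    · haveI : IsLocalHom (f.comp e.symm.toRingHom) := ⟨fun b hb ↦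
        (MulEquiv.isUnit_map e.symm).mp (hf.map_nonunit _ hb)⟩
      obtain ⟨g, ⟨hg1, hg2⟩, huniq⟩ := hB.universal T (f.comp e.symm.toRingHom) τ (by
        refine Ideal.Quotient.ringHom_ext (RingHom.ext fun b ↦ ?_)
        show τ (residue S (algebraMap B S b)) = residue T (f (e.symm b))
        have := RingHom.congr_fun hτ (residue A (e.symm b))
        change τ (residue S (algebraMap B S (e (e.symm b)))) = residue T (f (e.symm b)) at this
        rwa [e.apply_symm_apply] at this)
      refine ⟨g, ⟨?_, hg2⟩, fun g' hg' ↦ huniq g' ⟨?_, hg'.2⟩⟩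
      · ext a
        show g (algebraMap B S (e a)) = f a
        have := RingHom.congr_fun hg1 (e a)
        change g (algebraMap B S (e a)) = f (e.symm (e a)) at this
        rwa [e.symm_apply_apply] at this
      · ext b
        show g' (algebraMap B S b) = f (e.symm b)
        have := RingHom.congr_fun hg'.1 (e.symm b)
        change g' (algebraMap B S (e (e.symm b))) = f (e.symm b) at this
        rwa [e.apply_symm_apply] at this
  rw [← IsStrictHenselization.card_minimalPrimes (A := B) (S := S),
    IsStrictHenselization.card_minimalPrimes (A := A) (S := S)]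

theorem encard_minimalPrimes_le_of_faithfullyFlat (A B : Type u) [CommRing A] [CommRing B] [Algebra A B]
    [Module.FaithfullyFlat A B] : (minimalPrimes A).encard ≤ (minimalPrimes B).encard := by
  have hex : ∀ p : minimalPrimes A, ∃ r : minimalPrimes B, r.1.comap (algebraMap A B) = p.1 := by
    rintro ⟨p, hp⟩
    obtain ⟨⟨P, hP⟩, hPp⟩ := PrimeSpectrum.comap_surjective_of_faithfullyFlat (A := A) (B := B) ⟨p, hp.1.1⟩
    obtain ⟨r, hr, hrP⟩ := Ideal.exists_minimalPrimes_le (bot_le : ⊥ ≤ P)
    have hle : r.comap (algebraMap A B) ≤ p :=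
      (Ideal.comap_mono hrP).trans (congrArg PrimeSpectrum.asIdeal hPp).le
    exact ⟨⟨r, hr⟩, le_antisymm hle (hp.2 ⟨hr.1.1.comap _, bot_le⟩ hle)⟩
  choose f hf using hex
  exact ENat.card_le_card_of_injective (f := f) fun p q e => Subtype.ext <| (hf p).symm.trans (e ▸ hf q)

theorem encard_components_le_of_flat {W V : Scheme.{u}} (h : W ⟶ V) [Flat h] (w : W) :
    {Z : Set V | Z ∈ irreducibleComponents V ∧ h w ∈ Z}.encard ≤
      {Z : Set W | Z ∈ irreducibleComponents W ∧ w ∈ Z}.encard := by
  rw [AlgSp.encard_components_eq_minimalPrimes, AlgSp.encard_components_eq_minimalPrimes]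
  have hflat : (h.stalkMap w).hom.Flat := Flat.stalkMap h w
  algebraize [(h.stalkMap w).hom]
  haveI : IsLocalHom (algebraMap (V.presheaf.stalk (h w)) (W.presheaf.stalk w)) :=
    inferInstanceAs (IsLocalHom (h.stalkMap w).hom)
  haveI := Module.FaithfullyFlat.of_flat_of_isLocalHom (A := V.presheaf.stalk (h w)) (B := W.presheaf.stalk w)
  exact encard_minimalPrimes_le_of_faithfullyFlat _ _

theorem numGeomBranchesAt_etale {U X : Scheme.{u}} (g : U ⟶ X) [Etale g] (v : U) :
    Brnch.numGeomBranchesAt U v = Brnch.numGeomBranchesAt X (g v) := by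
  rw [BrnchNhd.numGeomBranchesAt_eq, BrnchNhd.numGeomBranchesAt_eq]
  refine le_antisymm (iSup_le fun W => iSup_le fun h => iSup_le fun w => iSup_le fun hw => ?_)
    (iSup_le fun W => iSup_le fun h => iSup_le fun w => iSup_le fun hw => ?_)
  · haveI := hw.1
    exact le_iSup_of_le W (le_iSup_of_le (h ≫ g) (le_iSup_of_le w (le_iSup_of_le ⟨inferInstance, by
      rw [Scheme.Hom.comp_apply, hw.2]⟩ le_rfl)))
  · haveI := hw.1
    obtain ⟨z, hz1, hz2⟩ := Scheme.Pullback.exists_preimage_pullback (f := h) (g := g) w v hw.2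
    refine le_iSup_of_le (pullback h g) (le_iSup_of_le (pullback.snd h g) (le_iSup_of_le z
      (le_iSup_of_le ⟨inferInstance, hz2⟩ ?_)))
    have := encard_components_le_of_flat (pullback.fst h g) z
    rwa [hz1] at this

/-- The upper bound at a point computing all branches. -/
theorem numGeomBranchesAt_pullback_le {k K : Type u} [Field k] [Field K] [Algebra k K] {U : Scheme.{u}}
    (h : U ⟶ Spec (CommRingCat.of k)) [LocallyOfFiniteType h]
    (w : ↥(pullback h (Spec.map (CommRingCat.ofHom (algebraMap k K))))) (v : U)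
    (hw : pullback.fst h _ w = v)
    (hv : Brnch.numGeomBranchesAt U v = (minimalPrimes ↥(U.presheaf.stalk v)).encard) :
    Brnch.numGeomBranchesAt (pullback h (Spec.map (CommRingCat.ofHom (algebraMap k K)))) w ≤
      Brnch.numGeomBranchesAt U v := by
  let σ := Spec.map (CommRingCat.ofHom (algebraMap k K))
  haveI : IsLocallyNoetherian U := LocallyOfFiniteType.isLocallyNoetherian h
  let A := U.presheaf.stalk v
  let ρ : CommRingCat.of k ⟶ A := Spec.preimage (U.fromSpecStalk v ≫ h)
  letI : Algebra k A := ρ.hom.toAlgebra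
  have hρ : U.fromSpecStalk v ≫ h = Spec.map (CommRingCat.ofHom (algebraMap k A)) := (Spec.map_preimage _).symm
  let e : pullback (U.fromSpecStalk v) (pullback.fst h σ) ≅ Spec (CommRingCat.of (A ⊗[k] K)) :=
    pullbackRightPullbackFstIso h σ (U.fromSpecStalk v) ≪≫ pullback.congrHom hρ rfl ≪≫ pullbackSpecIso k A K
  haveI : Flat (U.fromSpecStalk v) := FEt21.flat_fromSpecStalk v
  obtain ⟨z, hz1, hz2⟩ := Scheme.Pullback.exists_preimage_pullback (f := U.fromSpecStalk v) (g := pullback.fst h σ)
    (closedPoint A) w (by rw [hw]; exact Scheme.fromSpecStalk_closedPoint)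
  let j := e.inv ≫ pullback.snd (U.fromSpecStalk v) (pullback.fst h σ)
  haveI : IsPreimmersion (pullback.snd (U.fromSpecStalk v) (pullback.fst h σ)) :=
    MorphismProperty.pullback_snd _ _ inferInstance
  haveI : IsPreimmersion j := inferInstance
  haveI : Flat j := inferInstance
  let q : PrimeSpectrum (A ⊗[k] K) := e.hom z
  have hjq : j q = w := by
    show (e.inv ≫ _) (e.hom z) = w
    rw [← Scheme.Hom.comp_apply, Iso.hom_inv_id_assoc]
    exact hz2
  have hcontr : q.asIdeal.comap (algebraMap A (A ⊗[k] K)) = maximalIdeal A := by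
    have h1 : e.inv ≫ pullback.fst (U.fromSpecStalk v) (pullback.fst h σ) =
        Spec.map (CommRingCat.ofHom (algebraMap A (A ⊗[k] K))) := by
      simp only [e, Iso.trans_inv, Category.assoc]
      rw [pullbackRightPullbackFstIso_inv_fst, pullback.congrHom_inv, pullback.lift_fst, Category.comp_id]
      exact pullbackSpecIso_inv_fst' k A K
    have h2 : Spec.map (CommRingCat.ofHom (algebraMap A (A ⊗[k] K))) q = closedPoint A := by
      rw [← h1]
      show (e.inv ≫ _) (e.hom z) = _
      rw [← Scheme.Hom.comp_apply, Iso.hom_inv_id_assoc]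
      exact hz1
    exact congrArg PrimeSpectrum.asIdeal h2
  have hbij : Function.Bijective (j.stalkMap q) := by
    refine ⟨?_, j.stalkMap_surjective q⟩
    have hflat : (j.stalkMap q).hom.Flat := Flat.stalkMap j q
    algebraize [(j.stalkMap q).hom]
    haveI : IsLocalHom (algebraMap ((pullback h σ).presheaf.stalk (j q))
        ((Spec (CommRingCat.of (A ⊗[k] K))).presheaf.stalk q)) :=
      inferInstanceAs (IsLocalHom (j.stalkMap q).hom)
    haveI := Module.FaithfullyFlat.of_flat_of_isLocalHom (A := (pullback h σ).presheaf.stalk (j q))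
      (B := (Spec (CommRingCat.of (A ⊗[k] K))).presheaf.stalk q)
    exact FaithfulSMul.algebraMap_injective _ _
  let E : ((pullback h σ).presheaf.stalk (j q) : Type u) ≃+* Localization.AtPrime q.asIdeal :=
    (RingEquiv.ofBijective (j.stalkMap q).hom hbij).trans
      (Spec.stalkIso (CommRingCat.of (A ⊗[k] K)) q).commRingCatIsoToRingEquiv
  haveI : IsLocallyNoetherian (pullback h σ) :=
    LocallyOfFiniteType.isLocallyNoetherian (pullback.snd h σ)
  haveI : IsNoetherianRing (Localization.AtPrime q.asIdeal) := isNoetherianRing_of_ringEquiv _ E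
  rw [hv, ← hjq]
  show Brnch.numGeomBranches ((pullback h σ).presheaf.stalk (j q)) ≤ _
  rw [numGeomBranches_ringEquiv E]
  exact numGeomBranches_le k K q.asIdeal hcontr fun p => isGeomUnibranch_quotient A hv p

theorem numGeomBranchesAt_baseChange (k : Type u) [Field k] (X : Scheme.{u}) [X.Over (Spec (CommRingCat.of k))]
    [LocallyOfFiniteType (X ↘ (Spec (CommRingCat.of k)))] (K : Type u) [Field K] [Algebra k K]
    (y : ↥(Curv2.bc k X K)) :
    Brnch.numGeomBranchesAt X ((Curv2.bcFst k X K).base y) =
      Brnch.numGeomBranchesAt (Curv2.bc k X K) y := by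
  set f := X ↘ (Spec (CommRingCat.of k))
  set σ := Spec.map (CommRingCat.ofHom (algebraMap k K))
  haveI : Flat σ := Flat.SpecMap_iff.2 (RingHom.flat_algebraMap_iff.2 inferInstance)
  refine le_antisymm ?_ ?_
  · rw [BrnchNhd.numGeomBranchesAt_eq, BrnchNhd.numGeomBranchesAt_eq]
    refine iSup_le fun U => iSup_le fun g => iSup_le fun v => iSup_le fun hv => ?_
    haveI := hv.1
    obtain ⟨z, hz1, hz2⟩ := Scheme.Pullback.exists_preimage_pullback (f := g) (g := Curv2.bcFst k X K) v y hv.2
    refine le_iSup_of_le (pullback g (Curv2.bcFst k X K)) (le_iSup_of_le (pullback.snd _ _) (le_iSup_of_le z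
      (le_iSup_of_le ⟨inferInstance, hz2⟩ ?_)))
    have := encard_components_le_of_flat (pullback.fst g (Curv2.bcFst k X K)) z
    rwa [hz1] at this
  · set x := (Curv2.bcFst k X K).base y
    by_cases htop : Brnch.numGeomBranchesAt X x = ⊤
    · rw [htop]; exact le_top
    obtain ⟨n, hn⟩ := WithTop.ne_top_iff_exists.1 htop
    obtain ⟨U, g, v, hg, hv, hcount⟩ : ∃ (U : Scheme.{u}) (g : U ⟶ X) (v : U), Etale g ∧ g v = x ∧
        Brnch.numGeomBranchesAt X x ≤ (minimalPrimes ↥(U.presheaf.stalk v)).encard := by
      by_contra hc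
      push Not at hc
      have h1' : (1 : ℕ∞) ≤ Brnch.numGeomBranchesAt X x := one_le_numGeomBranches (X.presheaf.stalk x)
      rw [← hn] at h1'
      have h1 : 1 ≤ n := Nat.one_le_cast.1 h1'
      obtain ⟨m, rfl⟩ : ∃ m, n = m + 1 := ⟨n - 1, by omega⟩
      have h2 : Brnch.numGeomBranchesAt X x ≤ (m : ℕ∞) := by
        rw [BrnchNhd.numGeomBranchesAt_eq]
        refine iSup_le fun U => iSup_le fun g => iSup_le fun v => iSup_le fun hv => ?_
        rw [AlgSp.encard_components_eq_minimalPrimes]
        have h3 := hc U g v hv.1 hv.2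
        rw [← hn] at h3
        exact ENat.lt_coe_add_one_iff.1 (by exact_mod_cast h3)
      rw [← hn] at h2
      have := Nat.cast_le.1 h2
      omega
    haveI := hg
    obtain ⟨z, hz1, hz2⟩ := Scheme.Pullback.exists_preimage_pullback (f := g) (g := Curv2.bcFst k X K) v y hv
    let e : pullback g (Curv2.bcFst k X K) ≅ pullback (g ≫ f) σ := pullbackRightPullbackFstIso f σ g
    have hvn : Brnch.numGeomBranchesAt U v = (minimalPrimes ↥(U.presheaf.stalk v)).encard :=
      le_antisymm ((numGeomBranchesAt_etale g v).le.trans (hv ▸ hcount)) (AlgSp.encard_minimalPrimes_le_numGeomBranchesAt v)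
    have h1 := numGeomBranchesAt_pullback_le (g ≫ f) (e.hom z) v
      (by rw [← hz1, ← Scheme.Hom.comp_apply]; rw [show e.hom ≫ pullback.fst _ σ = pullback.fst g _ from pullbackRightPullbackFstIso_hom_fst f σ g]) hvn
    have h2 := numGeomBranchesAt_etale e.hom z
    have h3 := numGeomBranchesAt_etale (pullback.snd g (Curv2.bcFst k X K)) z
    have h4 := numGeomBranchesAt_etale g v
    rw [hz2] at h3
    rw [hv] at h4
    rw [← h3, h2, ← h4]
    exact h1

end GrothLib.BrnchBC5
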