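import Groth.Agent.S2715
import Groth.Agent.S9811
import Groth.Agent.Lib.Hensel.Unibranch
import Groth.Agent.Lib.BrnchNhd.Equiv
import Mathlib.LinearAlgebra.TensorProduct.RightExactness
import Mathlib.RingTheory.Ideal.GoingDown

/-!
# Geometric branches and field extensions: the ring statement
-/

set_option autoImplicit false
set_option maxHeartbeats 600000
universe u

open TensorProduct IsLocalRing

namespace GrothLib.BrnchBC5

open GrothLib.Hensel

theorem one_le_numGeomBranches (A : Type u) [CommRing A] [IsLocalRing A] : 1 ≤ Brnch.numGeomBranches A := by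
  rw [← IsStrictHenselization.card_minimalPrimes (A := A) (S := StrictHens A)]
  haveI : Nonempty (minimalPrimes (StrictHens A)) := Ideal.nonempty_minimalPrimes bot_ne_top
  exact (ENat.one_le_card_iff_nonempty _).2 ‹_›

/-- If the geometric branches are as few as the minimal primes, each component is geometrically unibranch. -/
theorem isGeomUnibranch_quotient (A : Type u) [CommRing A] [IsLocalRing A] [IsNoetherianRing A]
    (h : Brnch.numGeomBranches A = ENat.card (minimalPrimes A)) (p : minimalPrimes A) :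
    haveI : p.1.IsPrime := p.2.1.1
    CAlg2.IsGeomUnibranch (A ⧸ p.1) := by
  haveI : ∀ q : minimalPrimes A, q.1.IsPrime := fun q => q.2.1.1
  have hfin := minimalPrimes.finite_of_isNoetherianRing A
  haveI := hfin.fintype
  rw [← numGeomBranches_eq_one_iff]
  refine le_antisymm ?_ (one_le_numGeomBranches _)
  rw [Groth.Agent.S9811.result A hfin, finsum_eq_sum_of_fintype] at h
  classical
  rw [← Finset.add_sum_erase _ _ (Finset.mem_univ p)] at h
  have h1 : ∑ _q ∈ (Finset.univ.erase p), (1 : ℕ∞) ≤ ∑ q ∈ Finset.univ.erase p, Brnch.numGeomBranches (A ⧸ q.1) :=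
    Finset.sum_le_sum fun q _ => one_le_numGeomBranches _
  have h2 : ENat.card (minimalPrimes A) = 1 + ∑ _q ∈ (Finset.univ.erase p), (1 : ℕ∞) := by
    rw [Finset.add_sum_erase _ (fun _ => (1 : ℕ∞)) (Finset.mem_univ p), Finset.sum_const, Finset.card_univ,
      nsmul_one, ENat.card_eq_coe_fintype_card]
  have hne : (∑ _q ∈ (Finset.univ.erase p), (1 : ℕ∞)) ≠ ⊤ := by
    rw [Finset.sum_const, nsmul_one]
    exact ENat.coe_ne_top _
  refine (WithTop.add_le_add_iff_right hne).1 ?_
  calc Brnch.numGeomBranches (A ⧸ p.1) + _ ≤ Brnch.numGeomBranches (A ⧸ p.1) + _ := add_le_add le_rfl h1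
    _ = 1 + _ := h.trans h2

theorem numGeomBranches_congr {A : Type u} [CommRing A] [IsLocalRing A] {I J : Ideal A} [I.IsPrime] [J.IsPrime] (e : I = J) :
    Brnch.numGeomBranches (A ⧸ I) = Brnch.numGeomBranches (A ⧸ J) := by
  subst e
  rfl

variable (k : Type u) {A : Type u} (K : Type u) [Field k] [CommRing A] [IsLocalRing A] [Algebra k A] [Field K]
  [Algebra k K]

/-- Each minimal prime splits into geometrically unibranch pieces, one over each. -/
theorem key (q : Ideal (A ⊗[k] K)) [q.IsPrime] (hq : q.comap (algebraMap A (A ⊗[k] K)) = maximalIdeal A)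
    (p : Ideal A) [p.IsPrime] (hg : CAlg2.IsGeomUnibranch (A ⧸ p)) :
    ∃ (B'' : Type u) (_ : CommRing B'') (_ : IsLocalRing B'') (ψ : Localization.AtPrime q →+* B''),
      Function.Surjective ψ ∧ CAlg2.IsGeomUnibranch B'' ∧
        RingHom.ker ψ = p.map ((algebraMap (A ⊗[k] K) (Localization.AtPrime q)).comp (algebraMap A (A ⊗[k] K))) := by
  let φ : A ⊗[k] K →ₐ[k] (A ⧸ p) ⊗[k] K := Algebra.TensorProduct.map (Ideal.Quotient.mkₐ k p) (AlgHom.id k K)
  have hφ : Function.Surjective φ := TensorProduct.map_surjective Ideal.Quotient.mk_surjective Function.surjective_id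
  have hker : RingHom.ker φ = p.map (algebraMap A (A ⊗[k] K)) := by
    rw [Algebra.TensorProduct.rTensor_ker _ (Ideal.Quotient.mkₐ_surjective k p)]
    exact congrArg (fun I : Ideal A => I.map (algebraMap A (A ⊗[k] K))) (Ideal.Quotient.mkₐ_ker k p)
  have hpq : RingHom.ker φ ≤ q := by
    rw [hker, Ideal.map_le_iff_le_comap, hq]
    exact le_maximalIdeal (Ideal.IsPrime.ne_top ‹_›)
  let q' : Ideal ((A ⧸ p) ⊗[k] K) := q.map φ.toRingHom
  haveI : q'.IsPrime := Ideal.map_isPrime_of_surjective hφ hpq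
  have hcomap : q = q'.comap φ.toRingHom := by
    show q = (q.map φ.toRingHom).comap φ.toRingHom
    rw [Ideal.comap_map_of_surjective' φ.toRingHom hφ]
    exact (sup_eq_left.2 hpq).symm
  have hq' : q'.comap (algebraMap (A ⧸ p) ((A ⧸ p) ⊗[k] K)) = maximalIdeal (A ⧸ p) := by
    apply Ideal.comap_injective_of_surjective (Ideal.Quotient.mk p) Ideal.Quotient.mk_surjective
    rw [Ideal.comap_comap, show (maximalIdeal (A ⧸ p)).comap (Ideal.Quotient.mk p) = maximalIdeal A from
      IsLocalRing.eq_maximalIdeal (Ideal.comap_isMaximal_of_surjective (Ideal.Quotient.mk p) Ideal.Quotient.mk_surjective),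
      ← hq]
    conv_rhs => rw [hcomap, Ideal.comap_comap]
    rfl
  refine ⟨Localization.AtPrime q', inferInstance, inferInstance, Localization.localRingHom q q' φ.toRingHom hcomap,
    fun z => ?_, (Groth.Agent.S2715.result k (A ⧸ p) K q' hq').1 hg, le_antisymm (fun z hz => ?_) ?_⟩
  · obtain ⟨a, s, rfl⟩ := IsLocalization.exists_mk'_eq q'.primeCompl z
    obtain ⟨a', rfl⟩ := hφ a
    obtain ⟨s', hs'⟩ := hφ s.1
    have hs'q : s' ∈ q.primeCompl := fun h => s.2 (hs' ▸ Ideal.mem_map_of_mem φ.toRingHom h)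
    refine ⟨IsLocalization.mk' _ a' ⟨s', hs'q⟩, ?_⟩
    rw [Localization.localRingHom_mk']
    congr 1
    exact Subtype.ext hs'
  · obtain ⟨a, s, rfl⟩ := IsLocalization.exists_mk'_eq q.primeCompl z
    rw [RingHom.mem_ker, Localization.localRingHom_mk', IsLocalization.mk'_eq_zero_iff] at hz
    obtain ⟨t, ht⟩ := hz
    obtain ⟨t', ht'⟩ := hφ t.1
    have ht'q : t' ∈ q.primeCompl := fun h => t.2 (ht' ▸ Ideal.mem_map_of_mem φ.toRingHom h)
    have hmem : t' * a ∈ p.map (algebraMap A (A ⊗[k] K)) := by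
      rw [← hker, RingHom.mem_ker, map_mul, ht']
      exact ht
    rw [← Ideal.map_map, IsLocalization.mk'_mem_iff]
    refine (Ideal.unit_mul_mem_iff_mem _ (IsLocalization.map_units _ ⟨t', ht'q⟩)).1 ?_
    rw [← map_mul]
    exact Ideal.mem_map_of_mem _ hmem
  · rw [← Ideal.map_map, Ideal.map_le_iff_le_comap, ← hker]
    intro a ha
    rw [Ideal.mem_comap, RingHom.mem_ker, Localization.localRingHom_to_map, show φ.toRingHom a = 0 from ha, map_zero]

theorem numGeomBranches_le (q : Ideal (A ⊗[k] K)) [q.IsPrime]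
    (hq : q.comap (algebraMap A (A ⊗[k] K)) = maximalIdeal A) [IsNoetherianRing (Localization.AtPrime q)]
    (h : ∀ p : minimalPrimes A, haveI : p.1.IsPrime := p.2.1.1; CAlg2.IsGeomUnibranch (A ⧸ p.1)) :
    Brnch.numGeomBranches (Localization.AtPrime q) ≤ ENat.card (minimalPrimes A) := by
  set B := Localization.AtPrime q
  let φ : A →+* B := algebraMap A B
  have hφB : φ = (algebraMap (A ⊗[k] K) B).comp (algebraMap A (A ⊗[k] K)) :=
    IsScalarTower.algebraMap_eq A (A ⊗[k] K) B
  haveI : Module.Flat A B := Module.Flat.trans A (A ⊗[k] K) B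
  have hfin := minimalPrimes.finite_of_isNoetherianRing B
  haveI := hfin.fintype
  haveI : ∀ P : minimalPrimes B, P.1.IsPrime := fun P => P.2.1.1
  have hmin : ∀ P : minimalPrimes B, P.1.comap φ ∈ minimalPrimes A := fun P =>
    ⟨⟨inferInstance, bot_le⟩, fun p hp hle => by
      haveI := hp.1
      rcases hle.lt_or_eq with hlt | heq
      · haveI : Algebra.HasGoingDown A B := Algebra.HasGoingDown.of_flat
        haveI : P.1.LiesOver (P.1.comap φ) := ⟨rfl⟩
        obtain ⟨Q, hQle, hQp, hQl⟩ := Ideal.exists_ideal_le_liesOver_of_le (p := p) (q := P.1.comap φ) P.1 hle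
        have hPQ : P.1 ≤ Q := P.2.2 ⟨hQp, bot_le⟩ hQle
        have := hQl.over
        rw [this]
        exact Ideal.comap_mono hPQ
      · exact heq.ge⟩
  let π : minimalPrimes B → minimalPrimes A := fun P => ⟨P.1.comap φ, hmin P⟩
  haveI : ∀ p : minimalPrimes A, p.1.IsPrime := fun p => p.2.1.1
  have hfib : ∀ P : minimalPrimes B, CAlg2.IsGeomUnibranch (B ⧸ P.1) ∧
      ∀ P' : minimalPrimes B, π P' = π P → P' = P := fun P => by
    obtain ⟨B'', i1, i2, ψ, hψ, hg, hk⟩ := key k K q hq (π P).1 (h (π P))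
    haveI : IsDomain (CAlg2.red B'') := hg.1.1
    have hnil : (nilradical B'').IsPrime := (Ideal.Quotient.isDomain_iff_prime _).1 inferInstance
    have hmin'' : minimalPrimes B'' = {nilradical B''} := by
      haveI := hnil
      ext Q
      refine ⟨fun hQ => ?_, ?_⟩
      · haveI := hQ.1.1
        exact le_antisymm (hQ.2 ⟨hnil, bot_le⟩ (nilradical_le_prime Q)) (nilradical_le_prime Q)
      · rintro rfl
        exact ⟨⟨hnil, bot_le⟩, fun Q hQ _ => haveI := hQ.1; nilradical_le_prime Q⟩
    have hQ : ∀ P' : minimalPrimes B, π P' = π P → P'.1 = (nilradical B'').comap ψ := fun P' e => by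
      have hle : RingHom.ker ψ ≤ P'.1 := by
        rw [hk, ← hφB, Ideal.map_le_iff_le_comap]
        exact (congrArg Subtype.val e).ge
      haveI := hnil
      haveI : (P'.1.map ψ).IsPrime := Ideal.map_isPrime_of_surjective hψ hle
      have h1 : (nilradical B'').comap ψ ≤ P'.1 := by
        refine (Ideal.comap_mono (nilradical_le_prime (P'.1.map ψ))).trans ?_
        rw [Ideal.comap_map_of_surjective' ψ hψ, sup_eq_left.2 hle]
      exact le_antisymm (P'.2.2 ⟨inferInstance, bot_le⟩ h1) h1
    refine ⟨?_, fun P' e => Subtype.ext ((hQ P' e).trans (hQ P rfl).symm)⟩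
    haveI : (nilradical B'').IsPrime := hnil
    have h1 : CAlg2.IsGeomUnibranch (B'' ⧸ nilradical B'') := by
      rw [← numGeomBranches_eq_one_iff, ← (numGeomBranches_eq_one_iff (A := B'')).2 hg,
        Groth.Agent.S9811.result B'' (hmin'' ▸ Set.finite_singleton _)]
      have : Unique (minimalPrimes B'') := hmin'' ▸ Set.uniqueSingleton _
      rw [finsum_unique]
      exact numGeomBranches_congr (hmin''.le (default : minimalPrimes B'').2).symm
    refine BrnchNhd.isGeomUnibranch_of_ringEquiv ?_ h1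
    have hkk : RingHom.ker ((Ideal.Quotient.mk (nilradical B'')).comp ψ) = P.1 := by
      rw [← RingHom.comap_ker, Ideal.mk_ker, hQ P rfl]
    exact (RingHom.quotientKerEquivOfSurjective (f := (Ideal.Quotient.mk (nilradical B'')).comp ψ)
      ((Ideal.Quotient.mk_surjective (I := nilradical B'')).comp hψ)).symm.trans (Ideal.quotEquivOfEq hkk)
  rw [Groth.Agent.S9811.result B hfin, finsum_eq_sum_of_fintype]
  rw [Finset.sum_congr rfl fun P _ => (numGeomBranches_eq_one_iff (A := B ⧸ P.1)).2 (hfib P).1]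
  calc ∑ _P : minimalPrimes B, (1 : ℕ∞) = ENat.card (minimalPrimes B) := by simp
    _ ≤ ENat.card (minimalPrimes A) :=
      ENat.card_le_card_of_injective (f := π) fun P P' e => (hfib P').2 P e

end GrothLib.BrnchBC5
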